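import Mathlib
import Cfsg.Prelude.Def_BrauerPairs
import Cfsg.Agent.Blocks.LocalRing
import Cfsg.Agent.Blocks.Basic
import Cfsg.Agent.Blocks.ClassSum
import Cfsg.Agent.Blocks.OrbitSum
import Cfsg.Agent.Blocks.Osima
import Cfsg.Agent.Blocks.BlockIdem
import Cfsg.Agent.Blocks.ExtendedFMT

/-!
# First facts on Brauer pairs

* `brauerOmega_eq_sum` : the central character at the truncation as a finite sum;
* `brauerOmega_congr` : it depends only on the block modulo the local ideal;
* `isBrauerPairOf_of_mem` : it is enough to test one member of the block;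
* `principal_isBrauerPairOf` : the principal block of `C_G(Q)` gives a Brauer pair of the principal
  block;
* `principal_stabilizesBlock`.
-/

set_option autoImplicit false

open Cfsg

namespace Cfsg.Agent.H652.PairBasic

open Cfsg.Agent.Blocks.LocalRing
open Cfsg.Agent.Blocks

variable {G : Type*} [Group G] {p : ℕ} {M : Ideal AlgInt}

theorem brauerOmega_eq_sum [Finite G] (P : Subgroup G)
    [Fintype (Subgroup.centralizer (P : Set G))] (β : G → ℂ)
    (ξ : Subgroup.centralizer (P : Set G) → ℂ) :
    brauerOmega P β ξ = ∑ x : Subgroup.centralizer (P : Set G), β x * (ξ x / ξ 1) := by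
  unfold brauerOmega
  rw [finsum_eq_sum_of_fintype]
  refine Finset.sum_congr rfl fun x _ => ?_
  rw [mul_div_assoc]

theorem isClassFunction_restrict (P : Subgroup G) {β : G → ℂ} (hβ : IsClassFunction G β) :
    IsClassFunction (Subgroup.centralizer (P : Set G))
      (fun x : Subgroup.centralizer (P : Set G) => β x) := by
  intro g h
  simp only [Subgroup.coe_mul, Subgroup.coe_inv]
  exact hβ g h

/-- The value at the truncation depends only on the block modulo the local ideal. -/
theorem brauerOmega_congr [Finite G] (hM : IsPModular p M) (P : Subgroup G) {β : G → ℂ}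
    (hβ : IsClassFunction (Subgroup.centralizer (P : Set G))
      (fun x : Subgroup.centralizer (P : Set G) => β x))
    (hβR : ∀ x : Subgroup.centralizer (P : Set G), MemLocalRing M (β x))
    {ξ ξ' : Subgroup.centralizer (P : Set G) → ℂ}
    (hξ : IsClassFunction _ ξ) (hξ' : IsClassFunction _ ξ') (h : SameBlock M ξ ξ') :
    MemLocalIdeal M (brauerOmega P β ξ - brauerOmega P β ξ') := by
  have := Fintype.ofFinite (Subgroup.centralizer (P : Set G))
  have := isPrime hM
  rw [brauerOmega_eq_sum, brauerOmega_eq_sum]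
  exact ClassSum.memLocalIdeal_of_sameBlock hξ hξ' h hβ hβR

/-- For a Brauer pair of `B` it is enough to test one member. -/
theorem isBrauerPairOf_of_mem [Finite G] (hM : IsPModular p M) {B : Set (IrrCharacter G)}
    (hB : IsPBlock M B) {Q : Subgroup G} (hQ : IsPGroup p Q)
    {e : Set (IrrCharacter (Subgroup.centralizer (Q : Set G)))} (he : IsPBlock M e)
    {ξ : IrrCharacter (Subgroup.centralizer (Q : Set G))} (hξ : ξ ∈ e)
    (h : MemLocalIdeal M (brauerOmega Q (blockCoeff B) (ξ : _ → ℂ) - 1)) :
    IsBrauerPairOf p M B Q e := by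
  refine ⟨⟨hQ, he⟩, hB, fun ξ' hξ' => ?_⟩
  have := isPrime hM
  have h1 := brauerOmega_congr hM Q
    (isClassFunction_restrict Q (BlockIdem.isClassFunction_blockCoeff B))
    (fun x => Osima.memLocalRing_blockCoeff hM hB _) (Basic.irr_isClassFunction ξ'.2)
    (Basic.irr_isClassFunction ξ.2) (Basic.isPBlock_sameBlock he hξ' hξ)
  have h2 := memLocalIdeal_add hM h1 h
  simpa using h2

theorem isPBlock_principalBlock : IsPBlock M (principalBlock M G) :=
  ⟨⟨fun _ => 1, Basic.isIrrCharacter_one⟩, rfl⟩

theorem one_mem_principalBlock (hM : IsPModular p M) :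
    (⟨fun _ => 1, Basic.isIrrCharacter_one⟩ : IrrCharacter G) ∈ principalBlock M G := by
  have := isPrime hM
  exact Basic.sameBlock_refl _

theorem sum_blockCoeff_principal [Fintype G] (hM : IsPModular p M) :
    ∑ x : G, blockCoeff (principalBlock M G) x = 1 := by
  have h := BlockIdem.lin_blockCoeff (principalBlock M G)
    (⟨fun _ => 1, Basic.isIrrCharacter_one⟩ : IrrCharacter G)
  rw [if_pos (one_mem_principalBlock hM), ConvCentral.lin_def] at h
  simpa using h

/-- The sum over the group of a local-integral function invariant under conjugation by the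
`p`-group `Q` is congruent to the sum over `C_G(Q)`. -/
theorem sum_sub_sum_centralizer [Fintype G] (hM : IsPModular p M) (Q : Subgroup G)
    (hQ : IsPGroup p Q) [Fintype (Subgroup.centralizer (Q : Set G))] (f : G → ℂ)
    (hf : ∀ u ∈ Q, ∀ x : G, f (u * x * u⁻¹) = f x) (hR : ∀ x, MemLocalRing M (f x)) :
    MemLocalIdeal M (∑ x, f x - ∑ x : Subgroup.centralizer (Q : Set G), f x) := by
  classical
  have : Fact p.Prime := ⟨hM.1⟩
  obtain ⟨a, ha⟩ := OrbitSum.sum_eq_sum_centralizer_add_smul (A := locRing hM) Q hQ
    (fun x => ⟨f x, hR x⟩) (fun u hu x => Subtype.ext (hf u hu x))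
  have h1 : ∑ x, f x = (∑ x ∈ Finset.univ.filter (· ∈ Subgroup.centralizer (Q : Set G)), f x)
      + p * (a : ℂ) := by
    have h2 := congrArg (fun z : locRing hM => (z : ℂ)) ha
    simpa using h2
  have h3 : ∑ x ∈ Finset.univ.filter (· ∈ Subgroup.centralizer (Q : Set G)), f x =
      ∑ x : Subgroup.centralizer (Q : Set G), f x := by
    refine Finset.sum_subtype _ (fun x => ?_) f
    simp
  rw [h1, h3, add_sub_cancel_left]
  exact memLocalIdeal_mul_right hM (memLocalIdeal_prime hM) a.2

/-- The principal block of `C_G(Q)` gives a Brauer pair of the principal block of `G`. -/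
theorem principal_isBrauerPairOf [Finite G] (hM : IsPModular p M) {Q : Subgroup G}
    (hQ : IsPGroup p Q) : IsBrauerPairOf p M (principalBlock M G) Q
      (principalBlock M (Subgroup.centralizer (Q : Set G))) := by
  have := Fintype.ofFinite G
  have := Fintype.ofFinite (Subgroup.centralizer (Q : Set G))
  refine isBrauerPairOf_of_mem hM isPBlock_principalBlock hQ isPBlock_principalBlock
    (one_mem_principalBlock hM) ?_
  rw [brauerOmega_eq_sum]
  simp only [div_one, mul_one]
  rw [← sum_blockCoeff_principal (G := G) hM]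
  refine memLocalIdeal_sub_comm.1 (sum_sub_sum_centralizer hM Q hQ _ (fun u _ x => ?_) fun x => ?_)
  · exact BlockIdem.isClassFunction_blockCoeff _ _ _
  · exact Osima.memLocalRing_blockCoeff hM isPBlock_principalBlock _

/-- An element of `N_G(Q)` normalizes `C_G(Q)`. -/
theorem conj_mem_centralizer {Q : Subgroup G} {x : G} (hx : x ∈ Subgroup.normalizer (Q : Set G))
    {c : G} (hc : c ∈ Subgroup.centralizer (Q : Set G)) :
    x * c * x⁻¹ ∈ Subgroup.centralizer (Q : Set G) := by
  rw [Subgroup.mem_centralizer_iff] at hc ⊢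
  intro q hq
  have h1 : x⁻¹ * q * x ∈ Q := by
    have h2 := (Subgroup.mem_normalizer_iff.1 (inv_mem hx) q).1 hq
    rwa [inv_inv] at h2
  have h3 := hc _ h1
  have h4 : x * (x⁻¹ * q * x * c) * x⁻¹ = x * (c * (x⁻¹ * q * x)) * x⁻¹ := by rw [h3]
  have h5 : x * (x⁻¹ * q * x * c) * x⁻¹ = q * (x * c * x⁻¹) := by group
  have h6 : x * (c * (x⁻¹ * q * x)) * x⁻¹ = x * c * x⁻¹ * q := by group
  rw [← h5, h4, h6]

theorem mem_normalizer_centralizer {Q : Subgroup G} {x : G}
    (hx : x ∈ Subgroup.normalizer (Q : Set G)) :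
    x ∈ Subgroup.normalizer ((Subgroup.centralizer (Q : Set G) : Subgroup G) : Set G) := by
  rw [Subgroup.mem_normalizer_iff]
  intro c
  constructor
  · exact fun hc => conj_mem_centralizer hx hc
  · intro hc
    have := conj_mem_centralizer (inv_mem hx) hc
    rwa [show x⁻¹ * (x * c * x⁻¹) * x⁻¹⁻¹ = c by group] at this

/-- The conjugation automorphism of `C_G(Q)` by an element of the normalizer of `C_G(Q)`. -/
def conjAut (K : Subgroup G) {x : G} (hx : x ∈ Subgroup.normalizer (K : Set G)) : K ≃* K :=
  ExtendedFMT.conjL K x (fun c hc => (Subgroup.mem_normalizer_iff.1 hx c).1 hc)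
    (fun c hc => by
      have := (Subgroup.mem_normalizer_iff.1 (inv_mem hx) c).1 hc
      rwa [inv_inv] at this)

theorem conjAut_coe (K : Subgroup G) {x : G} (hx : x ∈ Subgroup.normalizer (K : Set G)) (c : K) :
    ((conjAut K hx c : K) : G) = x * c * x⁻¹ := rfl

/-- Elements normalizing `K` stabilize the principal block of `K`. -/
theorem stabilizesBlock_principal (K : Subgroup G) {x : G}
    (hx : x ∈ Subgroup.normalizer (K : Set G)) : StabilizesBlock K (principalBlock M K) x := by
  refine ⟨hx, fun χ hχ => ?_⟩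
  refine ⟨ExtendedFMT.compIrr (conjAut K hx).symm χ, ?_, ?_⟩
  · have h1 := ExtendedFMT.sameBlock_compIrr (M := M) (conjAut K hx).symm
      (θ := ⟨fun _ => 1, Basic.isIrrCharacter_one⟩) (ψ := χ) hχ
    exact h1
  · intro k k' hk
    rw [ExtendedFMT.compIrr_apply]
    have h2 : (conjAut K hx).symm k' = k := by
      rw [MulEquiv.symm_apply_eq]
      exact Subtype.ext hk
    rw [h2]

end Cfsg.Agent.H652.PairBasic
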