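import Cfsg.Agent.OddOrderCharacters.PF13.SumBound
import Cfsg.Agent.CharactersDeep.SumRootsUnity

/-!
# Arithmetic-geometric mean: the equality case for Galois equivariant functions

`eq_one_of_sum_eq`: a positive function on a finite group with algebraic integral, Galois equivariant
values and mean one is constant.
-/

set_option autoImplicit false

open Cfsg Cfsg.Agent.Characters.Core Cfsg.Agent.Characters.GaloisBasic

namespace Cfsg.Agent.H652.AMGM

variable {G : Type*} [Group G]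

theorem one_le_prod [Fintype G] (f : G → ℝ) (hint : ∀ g, IsIntegral ℤ ((f g : ℝ) : ℂ))
    (hgal : ∀ σ : ℂ ≃+* ℂ, ∃ m : ℕ, m.Coprime (Nat.card G) ∧
      ∀ g, σ ((f g : ℝ) : ℂ) = ((f (g ^ m) : ℝ) : ℂ)) (hpos : ∀ g, 0 < f g) :
    1 ≤ ∏ g, f g := by
  have hPpos : 0 < ∏ g, f g := Finset.prod_pos fun g _ => hpos g
  have hPint : IsIntegral ℤ (((∏ g, f g : ℝ)) : ℂ) := by
    rw [Complex.ofReal_prod]
    exact IsIntegral.prod _ fun g _ => hint g
  have hfix : ∀ σ : ℂ ≃+* ℂ, σ ((∏ g, f g : ℝ) : ℂ) = ((∏ g, f g : ℝ) : ℂ) := by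
    intro σ
    obtain ⟨m, hm, hσ⟩ := hgal σ
    rw [Complex.ofReal_prod, map_prod]
    simp only [hσ]
    exact Fintype.prod_equiv (powCoprime (G := G) (n := m) hm.symm) _ _ fun g => rfl
  obtain ⟨k, hk⟩ := exists_int_of_isIntegral hPint
    (exists_rat_of_forall_ringEquiv hPint.tower_top hfix)
  have hk' : ∏ g, f g = k := by exact_mod_cast hk
  rw [hk'] at hPpos ⊢
  have : (0 : ℤ) < k := by exact_mod_cast hPpos
  exact_mod_cast this

theorem eq_one_of_sum_eq [Fintype G] (f : G → ℝ) (hint : ∀ g, IsIntegral ℤ ((f g : ℝ) : ℂ))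
    (hgal : ∀ σ : ℂ ≃+* ℂ, ∃ m : ℕ, m.Coprime (Nat.card G) ∧
      ∀ g, σ ((f g : ℝ) : ℂ) = ((f (g ^ m) : ℝ) : ℂ)) (hpos : ∀ g, 0 < f g)
    (hsum : ∑ g, f g = Fintype.card G) (g : G) : f g = 1 := by
  have h1 := one_le_prod f hint hgal hpos
  have h2 := CharactersDeep.SumRootsUnity.card_le_sum_sq (fun g => Real.sqrt (f g))
    (fun g => Real.sqrt_nonneg _) (by
      rw [← Real.sqrt_prod _ (fun g _ => (hpos g).le)]
      rw [Real.one_le_sqrt]
      exact h1)
  have h3 : ∑ g, Real.sqrt (f g) ^ 2 = ∑ g, f g :=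
    Finset.sum_congr rfl fun g _ => Real.sq_sqrt (hpos g).le
  have h4 := h2.2 (by rw [h3, hsum]) g
  rw [Real.sqrt_eq_one] at h4
  exact h4

end Cfsg.Agent.H652.AMGM
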