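import Cfsg.Agent.H652.CtrOne
import Cfsg.Agent.H651.StarMain
import Cfsg.Agent.H648.HeightForm

/-!
# The irreducible characters of a nilpotent block

`a = (P, e)` is a maximal Brauer pair of `B` with inner fusion, such that `C_P(v)` is a defect
group of the block `e_v` of `C_G(v)`, for all `v ∈ P`; `χ₀ ∈ B` has height zero.  Then
`η ↦ η * χ₀` is a bijection from `Irr(P)` onto `B`.
-/

set_option autoImplicit false
set_option linter.unusedSectionVars false

open Cfsg
open scoped ComplexConjugate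

namespace Cfsg.Agent.H652.NilIrr

open Cfsg.Agent.H651 Cfsg.Agent.H649 Cfsg.Agent.Characters Cfsg.Agent.H652.Ctr
open Cfsg.Agent.H652.DoubleCount Cfsg.Agent.H652.CtrOne Cfsg.Agent.Blocks.Local

variable {G : Type*} [Group G] {p : ℕ} {M : Ideal AlgInt}

/-- Extension by zero of a function on a subgroup. -/
noncomputable def ext0 (P : Subgroup G) (η : P → ℂ) (g : G) : ℂ := by
  classical exact if h : g ∈ P then η ⟨g, h⟩ else 0

theorem ext0_of_mem {P : Subgroup G} (η : P → ℂ) {g : G} (h : g ∈ P) :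
    ext0 P η g = η ⟨g, h⟩ := by
  classical exact dif_pos h

theorem ext0_coe {P : Subgroup G} (η : P → ℂ) (g : P) : ext0 P η g = η g :=
  ext0_of_mem η g.2

theorem isStable_ext0 {a : BrauerPairIdx G} (hin : InnerFus p M a) {η : a.1 → ℂ}
    (hη : IsClassFunction a.1 η) : IsStable p M a (ext0 a.1 η) := by
  intro u x b hu hb h1 h2
  obtain ⟨y, hy, hyu⟩ := hin u x b hu hb h1 h2
  rw [hyu, ext0_of_mem η (a.1.mul_mem (a.1.mul_mem hy hu) (a.1.inv_mem hy)), ext0_of_mem η hu]
  exact hη ⟨u, hu⟩ ⟨y, hy⟩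

section

variable [Fintype G] [Fact p.Prime] [M.IsPrime] (hM : IsPModular p M) {a : BrauerPairIdx G}
  {B : Set (IrrCharacter G)} (hmax : IsMaximalBrauerPair p M B a.1 a.2) (hin : InnerFus p M a)
  (hloc : ∀ v ∈ a.1, p ^ blockDefect p (bP p M a v).2 =
      Nat.card (a.1 ⊓ Subgroup.centralizer ({v} : Set G) : Subgroup G))
  {χ : IrrCharacter G} (hχ : χ ∈ B) (h0 : blockHeight p B (χ : G → ℂ) = 0)

include hM hmax hin hloc hχ h0

/-- `η ↦ η * χ` is an isometry. -/
theorem classInner_star_ext0 [Fintype a.1] {η η' : a.1 → ℂ} (hη : IsClassFunction a.1 η)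
    (hη' : IsClassFunction a.1 η') :
    classInner (H651.star p M a (ext0 a.1 η) (χ : G → ℂ))
      (H651.star p M a (ext0 a.1 η') (χ : G → ℂ)) = classInner η η' := by
  have hc := Core.isIrr_isClassFunction χ.2
  have hs := isStable_ext0 hin hη
  have hs' := isStable_ext0 hin hη'
  rw [H650.classInner_star_star hM hs hs' hc hc, classInner_star hM hmax.1.1 hin
    (H650.isStable_mul hs (H650.isStable_conj hs')) hc hc, Core.classInner_def]
  congr 1
  refine Finset.sum_congr rfl fun v _ => ?_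
  have h1 := cc_eq_one hM hmax hin hloc hχ h0 v.2
  unfold cc at h1
  have h2 : (Nat.card (a.1 ⊓ Subgroup.centralizer ({(v : G)} : Set G) : Subgroup G) : ℂ) =
      (p : ℂ) ^ blockDefect p (bP p M a (v : G)).2 := by
    rw [← hloc _ v.2]
    push_cast
    rfl
  rw [h2, h1, mul_one, ext0_coe, ext0_coe]

/-- The irreducible characters `η * χ`. -/
theorem isIrr_star (η : IrrCharacter a.1) :
    IsIrrCharacter G (H651.star p M a (ext0 a.1 (η : a.1 → ℂ)) (χ : G → ℂ)) := by
  classical
  have : Fintype a.1 := Fintype.ofFinite _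
  have hs := isStable_ext0 hin (Core.isIrr_isClassFunction η.2)
  have hgen : IsGeneralizedCharacter a.1 (fun x => ext0 a.1 (η : a.1 → ℂ) (x : G)) := by
    have h1 : (fun x : a.1 => ext0 a.1 (η : a.1 → ℂ) (x : G)) = (η : a.1 → ℂ) := by
      funext x
      exact ext0_coe _ x
    rw [h1]
    exact ⟨(η : a.1 → ℂ), 0, Core.isIrr_isCharacter η.2, Core.isCharacter_zero, by simp⟩
  have h1 := star_isGeneralizedCharacter hM hmax hgen hs (Core.isIrr_isCharacter χ.2)
  have h2 := classInner_star_ext0 hM hmax hin hloc hχ h0 (Core.isIrr_isClassFunction η.2)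
    (Core.isIrr_isClassFunction η.2)
  rw [Core.classInner_irr_self η.2] at h2
  rcases Core.isIrr_of_generalized h1 h2 with h | h
  · exact h
  · exfalso
    have h3 : ¬ p ∣ orderOf (1 : G) := by
      rw [orderOf_one, Nat.dvd_one]
      exact (Fact.out : p.Prime).ne_one
    have h4 := H650.star_apply_reg hM hmax hs hχ h3
    obtain ⟨n, hn, hn'⟩ := Core.isIrr_apply_one h
    obtain ⟨m, hm, hm'⟩ := Core.isIrr_apply_one χ.2
    obtain ⟨l, hl, hl'⟩ := Core.isIrr_apply_one η.2
    have h5 : ext0 a.1 (η : a.1 → ℂ) 1 = l := by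
      rw [ext0_of_mem _ a.1.one_mem, ← hl']
      rfl
    rw [Pi.neg_apply, h4, hm', h5] at hn'
    have h6 : ((l : ℤ) * m + n : ℤ) = 0 := by
      have h7 : ((l : ℂ) * m + n) = 0 := by rw [← hn']; ring
      exact_mod_cast h7
    have h8 : 0 < (l : ℤ) * m := by positivity
    omega

/-- The irreducible characters `η * χ`. -/
noncomputable def psi (η : IrrCharacter a.1) : IrrCharacter G :=
  ⟨H651.star p M a (ext0 a.1 (η : a.1 → ℂ)) (χ : G → ℂ),
    isIrr_star hM hmax hin hloc hχ h0 η⟩

theorem psi_mem (η : IrrCharacter a.1) : psi hM hmax hin hloc hχ h0 η ∈ B :=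
  H650.star_mem hM hmax hχ _

theorem psi_injective : Function.Injective (psi hM hmax hin hloc hχ h0) := by
  classical
  have : Fintype a.1 := Fintype.ofFinite _
  intro η η' h
  by_contra hne
  have h1 : (psi hM hmax hin hloc hχ h0 η : G → ℂ) = psi hM hmax hin hloc hχ h0 η' := by rw [h]
  have h2 := classInner_star_ext0 hM hmax hin hloc hχ h0 (Core.isIrr_isClassFunction η.2)
    (Core.isIrr_isClassFunction η'.2)
  rw [Core.classInner_irr_ne η.2 η'.2 fun h => hne (Subtype.ext h)] at h2
  change classInner (psi hM hmax hin hloc hχ h0 η : G → ℂ)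
    (psi hM hmax hin hloc hχ h0 η') = 0 at h2
  rw [← h1, Core.classInner_irr_self (psi hM hmax hin hloc hχ h0 η).2] at h2
  exact one_ne_zero h2

theorem psi_reg (η : IrrCharacter a.1) {s : G} (hs : ¬ p ∣ orderOf s) :
    (psi hM hmax hin hloc hχ h0 η : G → ℂ) s =
      (charDegree (η : a.1 → ℂ) : ℂ) * (χ : G → ℂ) s := by
  have h1 := H650.star_apply_reg hM hmax (isStable_ext0 hin (Core.isIrr_isClassFunction η.2))
    hχ hs
  change _ = _
  refine h1.trans ?_
  rw [← Cfsg.Agent.Blocks.Basic.irr_one_eq_charDegree η.2, ext0_of_mem _ a.1.one_mem]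
  rfl

theorem charDegree_psi (η : IrrCharacter a.1) :
    charDegree (psi hM hmax hin hloc hχ h0 η : G → ℂ) =
      charDegree (η : a.1 → ℂ) * charDegree (χ : G → ℂ) := by
  have h3 : ¬ p ∣ orderOf (1 : G) := by
    rw [orderOf_one, Nat.dvd_one]
    exact (Fact.out : p.Prime).ne_one
  have h1 := psi_reg hM hmax hin hloc hχ h0 η h3
  rw [Cfsg.Agent.Blocks.Basic.irr_one_eq_charDegree χ.2,
    Cfsg.Agent.Blocks.Basic.irr_one_eq_charDegree (psi hM hmax hin hloc hχ h0 η).2] at h1
  exact_mod_cast h1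

theorem blockHeight_psi (η : IrrCharacter a.1) :
    blockHeight p B (psi hM hmax hin hloc hχ h0 η : G → ℂ) =
      (charDegree (η : a.1 → ℂ)).factorization p := by
  have h1 : sInf ((fun ψ : IrrCharacter G => (charDegree (ψ : G → ℂ)).factorization p) '' B) ≤
      (charDegree (χ : G → ℂ)).factorization p := Nat.sInf_le ⟨χ, hχ, rfl⟩
  unfold blockHeight at h0 ⊢
  rw [charDegree_psi hM hmax hin hloc hχ h0 η,
    Nat.factorization_mul (Cfsg.Agent.Blocks.Basic.charDegree_pos η.2).ne'
      (Cfsg.Agent.Blocks.Basic.charDegree_pos χ.2).ne', Finsupp.add_apply]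
  omega

omit hin hloc h0 in
/-- Multiplication by the function supported at `1`. -/
theorem star_delta : H651.star p M a (fun g => by classical exact if g = 1 then 1 else 0)
    (χ : G → ℂ) = pRegularPart p (χ : G → ℂ) := by
  classical
  have hs : IsStable p M a (fun g : G => if g = 1 then (1 : ℂ) else 0) := by
    intro u x b _ _ _ _
    have h1 : x * u * x⁻¹ = 1 ↔ u = 1 := by
      rw [mul_inv_eq_one, mul_eq_left]
    simp only [h1]
  funext g
  by_cases hg : p ∣ orderOf g
  · have h1 : pRegularPart p (χ : G → ℂ) g = 0 := by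
      unfold pRegularPart
      exact if_neg (fun h => h hg)
    rw [h1]
    have hpp : pp p g ≠ 1 := by
      intro h
      obtain ⟨y, h2, -, -, h3⟩ := isPPart_pp p g
      rw [h, one_mul] at h2
      rw [h2] at h3
      exact h3 hg
    change ∑ᶠ b ∈ blkPairs M (Subgroup.zpowers (pp p g)), _ = 0
    refine finsum_mem_eq_zero_of_forall_eq_zero fun b hb => ?_
    by_cases h : ∃ x, LEIdx p M (conjIdx x b) a
    · obtain ⟨x, hx⟩ := h
      have h2 := etaW_eq hs hb.1 hx
      have h3 : ¬ (x * pp p g * x⁻¹ = 1) := by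
        rw [mul_inv_eq_one, mul_eq_left]
        exact hpp
      rw [if_neg h3] at h2
      have h4 : etaW p M a (fun g : G => if g = 1 then (1 : ℂ) else 0) (pp p g) b = 0 := h2
      convert zero_mul _ using 2
    · have h4 := etaW_eq_zero (η := fun g : G => if g = 1 then (1 : ℂ) else 0) (u := pp p g) h
      convert zero_mul _ using 2
  · have h1 : pRegularPart p (χ : G → ℂ) g = (χ : G → ℂ) g := by
      unfold pRegularPart
      exact if_pos hg
    have h2 := H650.star_apply_reg hM hmax hs hχ hg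
    rw [if_pos rfl, one_mul] at h2
    rw [h1, ← h2]

theorem psi_surjective {ψ : IrrCharacter G} (hψ : ψ ∈ B) :
    ∃ η, psi hM hmax hin hloc hχ h0 η = ψ := by
  classical
  have : Fintype a.1 := Fintype.ofFinite _
  have : Finite (IrrCharacter a.1) := Core.finite_irr
  have := Fintype.ofFinite (IrrCharacter a.1)
  by_contra hcon
  push Not at hcon
  have hcχ := Core.isIrr_isClassFunction χ.2
  have hcψ := Core.isIrr_isClassFunction ψ.2
  set F : a.1 → ℂ := fun v =>
    (Nat.card (a.1 ⊓ Subgroup.centralizer ({(v : G)} : Set G) : Subgroup G) : ℂ) *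
        ctr p (v : G) (bP p M a (v : G)) (χ : G → ℂ) (ψ : G → ℂ) with hF
  have h1 : ∀ η : IrrCharacter a.1, ∑ v : a.1, (η : a.1 → ℂ) v * F v = 0 := by
    intro η
    have hs := isStable_ext0 hin (Core.isIrr_isClassFunction η.2)
    have h2 := classInner_star hM hmax.1.1 hin hs hcχ hcψ
    have h3 : classInner (psi hM hmax hin hloc hχ h0 η : G → ℂ) (ψ : G → ℂ) = 0 :=
      Core.classInner_irr_ne (psi hM hmax hin hloc hχ h0 η).2 ψ.2
        fun h => hcon η (Subtype.ext h)
    change classInner (H651.star p M a (ext0 a.1 (η : a.1 → ℂ)) (χ : G → ℂ)) (ψ : G → ℂ) = 0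
      at h3
    rw [h3, eq_comm, mul_eq_zero] at h2
    rcases h2 with h2 | h2
    · exfalso
      have : (Nat.card a.1 : ℂ) ≠ 0 := by exact_mod_cast Nat.card_pos.ne'
      exact this (inv_eq_zero.1 h2)
    · rw [← h2]
      refine Finset.sum_congr rfl fun v _ => ?_
      rw [ext0_coe]
  set δ : a.1 → ℂ := fun v => if v = 1 then 1 else 0 with hδ
  have hδc : IsClassFunction a.1 δ := by
    intro g h
    rw [hδ]
    have h1 : h * g * h⁻¹ = 1 ↔ g = 1 := by rw [mul_inv_eq_one, mul_eq_left]
    simp only [h1]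
  have h2 : ∑ v : a.1, δ v * F v = 0 := by
    have h3 := Core.classFunction_eq_sum hδc
    have h4 : ∀ v : a.1, δ v = ∑ η : IrrCharacter a.1,
        classInner δ (η : a.1 → ℂ) * (η : a.1 → ℂ) v := by
      intro v
      conv_lhs => rw [h3]
      rw [Finset.sum_apply]
      rfl
    have h5 : ∀ v : a.1, δ v * F v = ∑ η : IrrCharacter a.1,
        classInner δ (η : a.1 → ℂ) * ((η : a.1 → ℂ) v * F v) := by
      intro v
      rw [h4 v, Finset.sum_mul]
      exact Finset.sum_congr rfl fun η _ => by ring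
    simp_rw [h5]
    rw [Finset.sum_comm]
    refine Finset.sum_eq_zero fun η _ => ?_
    rw [← Finset.mul_sum, h1, mul_zero]
  have hs : IsStable p M a (fun g : G => if g = 1 then (1 : ℂ) else 0) := by
    intro u x b _ _ _ _
    have h1 : x * u * x⁻¹ = 1 ↔ u = 1 := by
      rw [mul_inv_eq_one, mul_eq_left]
    simp only [h1]
  have h3 := classInner_star hM hmax.1.1 hin hs hcχ hcψ
  have h4 : H651.star p M a (fun g : G => if g = 1 then (1 : ℂ) else 0) (χ : G → ℂ) =
      pRegularPart p (χ : G → ℂ) := by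
    rw [← star_delta hM hmax hχ]
  rw [h4] at h3
  have h5 : ∑ v : a.1, (if (v : G) = 1 then (1 : ℂ) else 0) *
      ((Nat.card (a.1 ⊓ Subgroup.centralizer ({(v : G)} : Set G) : Subgroup G) : ℂ) *
        ctr p (v : G) (bP p M a (v : G)) (χ : G → ℂ) (ψ : G → ℂ)) = 0 := by
    refine Eq.trans (Finset.sum_congr rfl fun v _ => ?_) h2
    rw [hδ, hF]
    simp only [OneMemClass.coe_eq_one]
  rw [h5, mul_zero] at h3
  obtain ⟨n, hn, -, hn'⟩ := Cfsg.Agent.H648.HeightForm.exists_int_height hM hmax.1.2.1 hχ h0 hψ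
  rw [h3, mul_zero] at hn
  have h6 : n = 0 := by exact_mod_cast hn.symm
  rw [h6] at hn'
  exact hn' (dvd_zero _)

/-- `B` and `Irr(P)` are in bijection, with the heights. -/
theorem exists_equiv : ∃ Φ : B ≃ IrrCharacter a.1, ∀ ψ : B,
    blockHeight p B ((ψ : IrrCharacter G) : G → ℂ) =
      (charDegree ((Φ ψ : IrrCharacter a.1) : a.1 → ℂ)).factorization p := by
  have hbij : Function.Bijective (fun η : IrrCharacter a.1 =>
      (⟨psi hM hmax hin hloc hχ h0 η, psi_mem hM hmax hin hloc hχ h0 η⟩ : B)) := by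
    constructor
    · intro η η' h
      exact psi_injective hM hmax hin hloc hχ h0 (congrArg Subtype.val h)
    · rintro ⟨ψ, hψ⟩
      obtain ⟨η, hη⟩ := psi_surjective hM hmax hin hloc hχ h0 hψ
      exact ⟨η, Subtype.ext hη⟩
  refine ⟨(Equiv.ofBijective _ hbij).symm, fun ψ => ?_⟩
  obtain ⟨η, rfl⟩ := (Equiv.ofBijective _ hbij).surjective ψ
  rw [Equiv.symm_apply_apply]
  exact blockHeight_psi hM hmax hin hloc hχ h0 η

/-- All members of `B` are proportional on the `p`-regular elements. -/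
theorem exists_nat_mul {ψ : IrrCharacter G} (hψ : ψ ∈ B) : ∃ d : ℕ, ∀ x : G,
    pRegularPart p (ψ : G → ℂ) x = (d : ℂ) * pRegularPart p (χ : G → ℂ) x := by
  obtain ⟨η, rfl⟩ := psi_surjective hM hmax hin hloc hχ h0 hψ
  refine ⟨charDegree (η : a.1 → ℂ), fun x => ?_⟩
  by_cases hx : p ∣ orderOf x
  · have h1 : ∀ f : G → ℂ, pRegularPart p f x = 0 := by
      intro f
      unfold pRegularPart
      exact if_neg (fun h => h hx)
    rw [h1, h1, mul_zero]
  · have h1 : ∀ f : G → ℂ, pRegularPart p f x = f x := by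
      intro f
      unfold pRegularPart
      exact if_pos hx
    rw [h1, h1]
    exact psi_reg hM hmax hin hloc hχ h0 η hx

/-- `l(B) = 1`. -/
theorem blockRank_eq_one : blockRank p B = 1 := by
  have h1 : Submodule.span ℂ ((fun χ : IrrCharacter G => pRegularPart p (χ : G → ℂ)) '' B) =
      Submodule.span ℂ {pRegularPart p (χ : G → ℂ)} := by
    apply le_antisymm
    · rw [Submodule.span_le]
      rintro _ ⟨ψ, hψ, rfl⟩
      obtain ⟨d, hd⟩ := exists_nat_mul hM hmax hin hloc hχ h0 hψ
      have h2 : pRegularPart p (ψ : G → ℂ) = (d : ℂ) • pRegularPart p (χ : G → ℂ) := by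
        funext x
        rw [hd x]
        rfl
      change pRegularPart p (ψ : G → ℂ) ∈ _
      rw [h2]
      exact Submodule.smul_mem _ _ (Submodule.mem_span_singleton_self _)
    · rw [Submodule.span_singleton_le_iff_mem]
      exact Submodule.subset_span ⟨χ, hχ, rfl⟩
  unfold blockRank
  rw [h1]
  refine finrank_span_singleton ?_
  intro h
  have h3 : ¬ p ∣ orderOf (1 : G) := by
    rw [orderOf_one, Nat.dvd_one]
    exact (Fact.out : p.Prime).ne_one
  have h4 := congrFun h 1
  have h5 : pRegularPart p (χ : G → ℂ) 1 = (χ : G → ℂ) 1 := by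
    unfold pRegularPart
    exact if_pos h3
  rw [h5] at h4
  exact Core.isIrr_apply_one_ne_zero χ.2 h4

end

end Cfsg.Agent.H652.NilIrr
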