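import Cfsg.Agent.H651.StarDef
import Cfsg.Agent.H613.ContribVal
import Cfsg.Agent.Blocks.SectionSum
import Cfsg.Agent.H652.AMGM

/-!
# Contributions of subsections, indexed by Brauer pairs

`ctr p u b χ ψ = |C_G(u)|⁻¹ ∑_{s} chiE b χ (u s) * conj (ψ (u s))`, the sum over the `p`-regular
elements `s` of `C_G(u)`, for a pair `b = (⟨u⟩, f)`.

* `ctr_conj`: invariance under conjugation;
* `ctr_eq_contr`: comparison with `H613.Contrib.contr`;
* `classInner_starW`: the inner product of `starW w χ` with `ψ`.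
-/

set_option autoImplicit false
set_option linter.unusedSectionVars false

open Cfsg
open scoped ComplexConjugate

namespace Cfsg.Agent.H652.Ctr

open Cfsg.Agent.H651 Cfsg.Agent.H649 Cfsg.Agent.H613.RegGram Cfsg.Agent.H613.Contrib
open Cfsg.Agent.Blocks.Blau Cfsg.Agent.Characters
open Cfsg.Agent.Blocks.Local (isPrime_of_isPModular)

variable {G : Type*} [Group G]

section defs

variable [Fintype G]

open Classical in
/-- The contribution of the subsection `(u, b)`. -/
noncomputable def ctr (p : ℕ) (u : G) (b : BrauerPairIdx G) (χ ψ : G → ℂ) : ℂ :=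
  (Nat.card (Subgroup.centralizer ({u} : Set G)) : ℂ)⁻¹ *
    ∑ s ∈ Finset.univ.filter (fun s : G => Commute u s ∧ ¬ p ∣ orderOf s),
      chiE b χ (u * s) * conj (ψ (u * s))

open Classical in
theorem ctr_def (p : ℕ) (u : G) (b : BrauerPairIdx G) (χ ψ : G → ℂ) :
    ctr p u b χ ψ = (Nat.card (Subgroup.centralizer ({u} : Set G)) : ℂ)⁻¹ *
    ∑ s ∈ Finset.univ.filter (fun s : G => Commute u s ∧ ¬ p ∣ orderOf s),
      chiE b χ (u * s) * conj (ψ (u * s)) := rfl

theorem card_centralizer_conj (x u : G) :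
    Nat.card (Subgroup.centralizer ({x * u * x⁻¹} : Set G)) =
      Nat.card (Subgroup.centralizer ({u} : Set G)) := by
  have h := centralizer_singleton_map (MulAut.conj x) u
  rw [MulAut.conj_apply] at h
  rw [h]
  exact Nat.card_congr ((Subgroup.centralizer ({u} : Set G)).equivMapOfInjective
    (MulAut.conj x).toMonoidHom (MulAut.conj x).injective).toEquiv.symm

theorem ctr_conj (p : ℕ) (x u : G) (b : BrauerPairIdx G) {χ ψ : G → ℂ}
    (hχ : IsClassFunction G χ) (hψ : IsClassFunction G ψ) :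
    ctr p (x * u * x⁻¹) (conjIdx x b) χ ψ = ctr p u b χ ψ := by
  classical
  rw [ctr_def, ctr_def, card_centralizer_conj]
  congr 1
  refine (Finset.sum_equiv (MulAut.conj x).toEquiv (fun s => ?_) fun s _ => ?_).symm
  · simp only [Finset.mem_filter, Finset.mem_univ, true_and, MulEquiv.toEquiv_eq_coe,
      MulEquiv.coe_toEquiv, MulAut.conj_apply]
    have h1 : orderOf (x * s * x⁻¹) = orderOf s := orderOf_conj_eq s x
    rw [h1]
    refine and_congr_left fun _ => ?_
    constructor
    · intro h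
      have h2 : x * u * x⁻¹ * (x * s * x⁻¹) = x * (u * s) * x⁻¹ := by group
      have h3 : x * s * x⁻¹ * (x * u * x⁻¹) = x * (s * u) * x⁻¹ := by group
      change _ = _
      rw [h2, h3, h.eq]
    · intro h
      have h2 : x * u * x⁻¹ * (x * s * x⁻¹) = x * (u * s) * x⁻¹ := by group
      have h3 : x * s * x⁻¹ * (x * u * x⁻¹) = x * (s * u) * x⁻¹ := by group
      have h4 := h.eq
      rw [h2, h3] at h4
      exact mul_left_cancel (mul_right_cancel h4)
  · change chiE b χ (u * s) * conj (ψ (u * s)) =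
      chiE (conjIdx x b) χ (x * u * x⁻¹ * (x * s * x⁻¹)) *
        conj (ψ (x * u * x⁻¹ * (x * s * x⁻¹)))
    have h2 : x * u * x⁻¹ * (x * s * x⁻¹) = x * (u * s) * x⁻¹ := by group
    rw [h2, chiE_conjIdx x b hχ, hψ]

theorem ctr_sum_eq (p : ℕ) (u : G) (b : BrauerPairIdx G) (χ ψ : G → ℂ)
    [DecidablePred fun s : G => Commute u s ∧ ¬ p ∣ orderOf s] :
    ∑ s ∈ Finset.univ.filter (fun s : G => Commute u s ∧ ¬ p ∣ orderOf s),
      chiE b χ (u * s) * conj (ψ (u * s)) =
      (Nat.card (Subgroup.centralizer ({u} : Set G)) : ℂ) * ctr p u b χ ψ := by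
  rw [ctr_def, ← mul_assoc, mul_inv_cancel₀ (by exact_mod_cast Nat.card_pos.ne'), one_mul]
  congr

theorem centralizer_zpowers_eq (u : G) :
    Subgroup.centralizer ((Subgroup.zpowers u : Subgroup G) : Set G) =
      Subgroup.centralizer ({u} : Set G) := by
  rw [Subgroup.zpowers_eq_closure, Subgroup.centralizer_closure]

theorem isClassFunction_mul_left (u : G) {χ : G → ℂ} (hχ : IsClassFunction G χ) :
    IsClassFunction (Subgroup.centralizer ((Subgroup.zpowers u : Subgroup G) : Set G))
      (fun c => χ (u * (c : G))) := by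
  intro g h
  have hcomm : u * (h : G) = h * u :=
    Subgroup.mem_centralizer_iff.1 h.2 u (Subgroup.mem_zpowers u)
  have h1 : u * ((h * g * h⁻¹ : Subgroup.centralizer ((Subgroup.zpowers u : Subgroup G) :
      Set G)) : G) = h * (u * g) * (h : G)⁻¹ := by
    change u * ((h : G) * g * (h : G)⁻¹) = _
    rw [← mul_assoc, ← mul_assoc, hcomm]
    simp only [mul_assoc]
  change χ (u * _) = χ (u * g)
  rw [h1, hχ]

end defs

section compare

variable [Fintype G] {p : ℕ} [Fact p.Prime] {M : Ideal AlgInt}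

theorem sum_rg_mul_rg' {H : Type*} [Group H] [Fintype H] (hM : IsPModular p M)
    {B : Set (IrrCharacter H)} [Fintype B] (hB : IsPBlock M B) {ξ : IrrCharacter H} (hξ : ξ ∈ B)
    {f : H → ℂ} (hf : IsClassFunction H f) :
    ∑ η : B, rg p (ξ : H → ℂ) (η : H → ℂ) * conj (rg p f (η : H → ℂ)) = rg p (ξ : H → ℂ) f := by
  have : Finite (IrrCharacter H) := Core.finite_irr
  have := Fintype.ofFinite (IrrCharacter H)
  rw [rg_eq_sum p (Core.isIrr_isClassFunction ξ.2) hf]
  exact (sum_eq_sum_coe B (fun η => rg p (ξ : H → ℂ) (η : H → ℂ) * conj (rg p f (η : H → ℂ)))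
    fun ζ hζ => by rw [rg_eq_zero hM hB hξ hζ, zero_mul]).symm

/-- Comparison with the contributions of `H613.Contrib`. -/
theorem ctr_eq_contr (hM : IsPModular p M) (u : G)
    (f : Set (IrrCharacter (Subgroup.centralizer ((Subgroup.zpowers u : Subgroup G) : Set G))))
    (hf : IsPBlock M f) [Fintype f]
    [Fintype (Subgroup.centralizer ((Subgroup.zpowers u : Subgroup G) : Set G))]
    {χ ψ : G → ℂ} (hχ : IsClassFunction G χ) (hψ : IsClassFunction G ψ) :
    ctr p u ⟨Subgroup.zpowers u, f⟩ χ ψ = contr p u f χ ψ := by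
  classical
  have hfin : Finite (IrrCharacter (Subgroup.centralizer
    ((Subgroup.zpowers u : Subgroup G) : Set G))) := Core.finite_irr
  have := Fintype.ofFinite (IrrCharacter (Subgroup.centralizer
    ((Subgroup.zpowers u : Subgroup G) : Set G)))
  set θ : Subgroup.centralizer ((Subgroup.zpowers u : Subgroup G) : Set G) → ℂ :=
    fun c => χ (u * (c : G)) with hθ
  set θ' : Subgroup.centralizer ((Subgroup.zpowers u : Subgroup G) : Set G) → ℂ :=
    fun c => ψ (u * (c : G)) with hθ'
  have hθc : IsClassFunction _ θ := isClassFunction_mul_left u hχ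
  have hθ'c : IsClassFunction _ θ' := isClassFunction_mul_left u hψ
  have hcard : Nat.card (Subgroup.centralizer ({u} : Set G)) =
      Nat.card (Subgroup.centralizer ((Subgroup.zpowers u : Subgroup G) : Set G)) := by
    rw [centralizer_zpowers_eq]
  -- the left side
  have h1 : ctr p u ⟨Subgroup.zpowers u, f⟩ χ ψ = rg p (blockPart f θ) θ' := by
    rw [ctr_def, rg_def, hcard]
    congr 1
    rw [pair_def, Finset.sum_filter]
    symm
    refine Finset.sum_of_injOn (fun k : Subgroup.centralizer ((Subgroup.zpowers u : Subgroup G) :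
      Set G) => (k : G)) (Subtype.val_injective.injOn)
      (fun _ _ => Finset.mem_coe.2 (Finset.mem_univ _)) ?_ ?_
    · intro s _ hs
      rw [if_neg]
      rintro ⟨h2, -⟩
      refine hs ⟨⟨s, ?_⟩, Finset.mem_coe.2 (Finset.mem_univ _), rfl⟩
      rw [centralizer_zpowers_eq, Subgroup.mem_centralizer_singleton_iff]
      exact h2.symm.eq
    · intro k _
      have hk : Commute u (k : G) := Subgroup.mem_centralizer_iff.1 k.2 u (Subgroup.mem_zpowers u)
      by_cases hpk : p ∣ orderOf k
      · rw [regPart_of_dvd hpk, zero_mul, if_neg]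
        rintro ⟨-, h3⟩
        rw [Subgroup.orderOf_coe] at h3
        exact h3 hpk
      · rw [regPart_of_not_dvd hpk, if_pos ⟨hk, by rwa [Subgroup.orderOf_coe]⟩, chiE_zpowers u f hχ,
          mul_comm]
  -- expansion of the block part
  have h2 : blockPart f θ = ∑ ξ : f, classInner θ (ξ.1.1) • (ξ.1.1) := by
    funext y
    rw [Cfsg.Agent.Blocks.CentralizerSum.blockPart_eq, Finset.sum_apply]
    rw [finsum_mem_eq_toFinset_sum, ← Finset.sum_coe_sort]
    exact Fintype.sum_equiv (Equiv.subtypeEquivRight fun ξ => by simp) _ _ fun ξ => rfl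
  rw [h1, h2, Cfsg.Agent.H613.ContribVal.rg_sum_smul_left, contr_def]
  have h3 : ∀ η : f, wt p u χ (η.1.1) =
      ∑ ξ : f, classInner θ (ξ.1.1) * rg p (ξ.1.1) (η.1.1) := by
    intro η
    have h4 := Core.classFunction_eq_sum hθc
    rw [wt_def]
    change rg p θ _ = _
    conv_lhs => rw [h4]
    rw [Cfsg.Agent.H613.ContribVal.rg_sum_smul_left]
    exact sum_eq_sum_coe f _ fun ζ hζ => by rw [rg_eq_zero' hM hf hζ η.2, mul_zero]
  simp_rw [h3, Finset.sum_mul]
  rw [Finset.sum_comm]
  refine Finset.sum_congr rfl fun ξ _ => ?_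
  rw [← sum_rg_mul_rg' hM hf ξ.2 hθ'c, Finset.mul_sum]
  refine Finset.sum_congr rfl fun η _ => ?_
  rw [mul_assoc]
  rfl

end compare

end Cfsg.Agent.H652.Ctr
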