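import Cfsg.Agent.H652.Ctr
import Cfsg.Agent.H644.Uniq
import Cfsg.Agent.H649.FusBlock

/-!
# Sums over subsections, for inner fusion

`a = (P, e)` is a Brauer pair such that the fusion of elements on it is inner (`InnerFus`).

* `bP p M a v`: the pair `(⟨v⟩, e_v)` below `a`, for `v ∈ P`;
* `sum_subsections`: a sum over the subsections `(u, b)` conjugate into `a` as a sum over `P`;
* `classInner_star`: the inner product of `star η χ` with `ψ`.
-/

set_option autoImplicit false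
set_option linter.unusedSectionVars false

open Cfsg
open scoped ComplexConjugate

namespace Cfsg.Agent.H652.DoubleCount

open Cfsg.Agent.H651 Cfsg.Agent.H649 Cfsg.Agent.Characters Cfsg.Agent.H652.Ctr

variable {G : Type*} [Group G] {p : ℕ} {M : Ideal AlgInt}

theorem finite_brauerPairIdx [Finite G] : Finite (BrauerPairIdx G) := by
  have : ∀ Q : Subgroup G, Finite (IrrCharacter (Subgroup.centralizer (Q : Set G))) :=
    fun Q => Core.finite_irr
  infer_instance

/-- The pair `(⟨v⟩, e_v)` below `a`. -/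
noncomputable def bP (p : ℕ) (M : Ideal AlgInt) (a : BrauerPairIdx G) (v : G) :
    BrauerPairIdx G := by
  classical exact if h : ∃ b : BrauerPairIdx G, b.1 = Subgroup.zpowers v ∧ LEIdx p M b a then
    h.choose else a

/-- Fusion of elements in the pair `a` is inner. -/
def InnerFus (p : ℕ) (M : Ideal AlgInt) (a : BrauerPairIdx G) : Prop :=
  ∀ (u x : G) (b : BrauerPairIdx G), u ∈ a.1 → b.1 = Subgroup.zpowers u → LEIdx p M b a →
    LEIdx p M (conjIdx x b) a → ∃ y ∈ a.1, x * u * x⁻¹ = y * u * y⁻¹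

section

variable [Fintype G] [M.IsPrime] (hM : IsPModular p M) {a : BrauerPairIdx G}
  (ha : IsBrauerPair p M a.1 a.2)

include hM ha

theorem bP_spec {v : G} (hv : v ∈ a.1) :
    (bP p M a v).1 = Subgroup.zpowers v ∧ LEIdx p M (bP p M a v) a := by
  classical
  have hex : ∃ b : BrauerPairIdx G, b.1 = Subgroup.zpowers v ∧ LEIdx p M b a := by
    obtain ⟨f, hf⟩ := Cfsg.Agent.H644.exists_subpairLE hM ha (Subgroup.zpowers v)
      ((Subgroup.zpowers_le).2 hv)
    exact ⟨⟨Subgroup.zpowers v, f⟩, rfl, hf⟩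
  have h : bP p M a v = hex.choose := dif_pos hex
  rw [h]
  exact hex.choose_spec

omit hM ha in
theorem eq_of_leIdx (hM : IsPModular p M) (ha : IsBrauerPair p M a.1 a.2)
    {b b' : BrauerPairIdx G} (h : LEIdx p M b a) (h' : LEIdx p M b' a) (hbb : b.1 = b'.1) :
    b = b' := by
  obtain ⟨Q, f⟩ := b
  obtain ⟨Q', f'⟩ := b'
  have hQ : Q = Q' := hbb
  subst hQ
  rw [Cfsg.Agent.H644.subpairLE_unique hM ha Q f f' h h']

theorem bP_eq {v : G} (hv : v ∈ a.1) {b : BrauerPairIdx G} (hb : b.1 = Subgroup.zpowers v)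
    (h : LEIdx p M b a) : bP p M a v = b := by
  obtain ⟨h1, h2⟩ := bP_spec hM ha hv
  exact eq_of_leIdx hM ha h2 h (h1.trans hb.symm)

theorem conjIdx_self {y : G} (hy : y ∈ a.1) : conjIdx y a = a := by
  obtain ⟨P, e⟩ := a
  exact conjIdx_self_of_mem hy ha.2

theorem bP_conj {v y : G} (hv : v ∈ a.1) (hy : y ∈ a.1) :
    bP p M a (y * v * y⁻¹) = conjIdx y (bP p M a v) := by
  obtain ⟨h1, h2⟩ := bP_spec hM ha hv
  refine bP_eq hM ha (a.1.mul_mem (a.1.mul_mem hy hv) (a.1.inv_mem hy)) ?_ ?_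
  · rw [conjIdx_fst, h1, MonoidHom.map_zpowers]
    rfl
  · have h3 := (leIdx_conjIdx_iff y).2 h2
    rwa [conjIdx_self hM ha hy] at h3

/-- An element centralizing `v` fixes the pair `(⟨v⟩, e_v)`. -/
theorem conjIdx_bP_of_commute {v z : G} (hv : v ∈ a.1) (hz : Commute z v) :
    conjIdx z (bP p M a v) = bP p M a v := by
  obtain ⟨h1, h2⟩ := bP_spec hM ha hv
  have hb : IsBrauerPair p M (bP p M a v).1 (bP p M a v).2 := LEIdx.isBrauerPair h2 ha
  revert hb h1
  generalize bP p M a v = b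
  intro h1 hb
  obtain ⟨Q, f⟩ := b
  have hQ : Q = Subgroup.zpowers v := h1
  subst hQ
  have hzc : z ∈ Subgroup.centralizer ((Subgroup.zpowers v : Subgroup G) : Set G) := by
    rw [centralizer_zpowers_eq, Subgroup.mem_centralizer_singleton_iff]
    exact hz.eq
  rw [conjIdx_eq_iff hb.2]
  refine ⟨Subgroup.centralizer_le_normalizer _ hzc, ?_⟩
  exact (Cfsg.Agent.H644.stabilizesBlock_iff hM hb.2 z).2
    ⟨Subgroup.le_normalizer hzc, Cfsg.Agent.H644.isInv_iff_cj.1
      (Cfsg.Agent.H644.isInv_emb (Cfsg.Agent.H644.isCls_idem _)) _ hzc⟩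

/-- The number of `(g', v')` with the same image as `(g, v)`. -/
theorem card_fiber (hin : InnerFus p M a) (g : G) (v : a.1) :
    Nat.card {y : G × a.1 // y.1 * (y.2 : G) * y.1⁻¹ = g * v * g⁻¹ ∧
      conjIdx y.1 (bP p M a (y.2 : G)) = conjIdx g (bP p M a (v : G))} *
      Nat.card (a.1 ⊓ Subgroup.centralizer ({(v : G)} : Set G) : Subgroup G) =
    Nat.card (Subgroup.centralizer ({(v : G)} : Set G)) * Nat.card a.1 := by
  classical
  -- a choice of conjugating elements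
  have hch : ∀ v' : a.1, ∃ y : a.1, (∃ y : a.1, (v' : G) = (y : G)⁻¹ * v * y) →
      (v' : G) = (y : G)⁻¹ * v * y := by
    intro v'
    by_cases h : ∃ y : a.1, (v' : G) = (y : G)⁻¹ * v * y
    · exact ⟨h.choose, fun _ => h.choose_spec⟩
    · exact ⟨1, fun h' => absurd h' h⟩
  choose y0 hy0 using hch
  have hconj : ∀ y : G × a.1, y.1 * (y.2 : G) * y.1⁻¹ = g * v * g⁻¹ →
      conjIdx y.1 (bP p M a (y.2 : G)) = conjIdx g (bP p M a (v : G)) →
      ∃ y' : a.1, (y.2 : G) = (y' : G)⁻¹ * v * y' := by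
    rintro ⟨g', v'⟩ h1 h2
    simp only at h1 h2 ⊢
    obtain ⟨h3, h4⟩ := bP_spec hM ha v.2
    obtain ⟨h5, h6⟩ := bP_spec hM ha v'.2
    have h7 : conjIdx (g'⁻¹ * g) (bP p M a (v : G)) = bP p M a (v' : G) := by
      rw [← conjIdx_conjIdx, ← h2, conjIdx_inv_conjIdx]
    obtain ⟨y, hy, hyv⟩ := hin v (g'⁻¹ * g) _ v.2 h3 h4 (by rw [h7]; exact h6)
    refine ⟨⟨y⁻¹, a.1.inv_mem hy⟩, ?_⟩
    have h8 : (v' : G) = g'⁻¹ * g * v * (g'⁻¹ * g)⁻¹ := by
      calc (v' : G) = g'⁻¹ * (g' * v' * g'⁻¹) * g' := by group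
        _ = g'⁻¹ * (g * v * g⁻¹) * g' := by rw [h1]
        _ = _ := by group
    rw [h8, hyv]
    simp
  rw [← Nat.card_prod, ← Nat.card_prod]
  refine Nat.card_congr
    { toFun := fun w => (⟨g⁻¹ * w.1.1.1 * ((w.2 : G) * y0 w.1.1.2)⁻¹, ?_⟩,
        ⟨(w.2 : G) * y0 w.1.1.2, a.1.mul_mem w.2.2.1 (y0 w.1.1.2).2⟩)
      invFun := fun w => (⟨(g * w.1 * w.2, ⟨(w.2 : G)⁻¹ * v * w.2,
          a.1.mul_mem (a.1.mul_mem (a.1.inv_mem w.2.2) v.2) w.2.2⟩), ?_, ?_⟩,
        ⟨(w.2 : G) * (y0 ⟨(w.2 : G)⁻¹ * v * w.2,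
          a.1.mul_mem (a.1.mul_mem (a.1.inv_mem w.2.2) v.2) w.2.2⟩ : G)⁻¹, ?_⟩)
      left_inv := ?_
      right_inv := ?_ }
  · obtain ⟨⟨⟨g', v'⟩, h1, h2⟩, ⟨c, hcP, hcv⟩⟩ := w
    simp only
    have h3 := hy0 v' (hconj _ h1 h2)
    have h4 : c * (v : G) = v * c := Subgroup.mem_centralizer_singleton_iff.1 hcv
    have h1' : g' * (v' : G) * g'⁻¹ = g * v * g⁻¹ := h1
    rw [Subgroup.mem_centralizer_singleton_iff]
    have h5 : (c * (y0 v' : G))⁻¹ * v * (c * y0 v') = v' := by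
      rw [h3]
      have h6 : c⁻¹ * (v : G) * c = v := by
        rw [mul_assoc, ← h4, inv_mul_cancel_left]
      calc (c * (y0 v' : G))⁻¹ * v * (c * y0 v') = (y0 v' : G)⁻¹ * (c⁻¹ * v * c) * y0 v' := by group
        _ = _ := by rw [h6]
    have h7 : ((c * (y0 v' : G))⁻¹) * v = v' * (c * (y0 v' : G))⁻¹ := by
      rw [eq_mul_inv_iff_mul_eq]
      exact h5
    calc g⁻¹ * g' * (c * (y0 v' : G))⁻¹ * v = g⁻¹ * g' * ((c * (y0 v' : G))⁻¹ * v) := by group
      _ = g⁻¹ * (g' * v' * g'⁻¹) * g' * (c * (y0 v' : G))⁻¹ := by rw [h7]; group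
      _ = v * (g⁻¹ * g' * (c * (y0 v' : G))⁻¹) := by rw [h1']; group
  · obtain ⟨⟨z, hz⟩, ⟨y, hy⟩⟩ := w
    simp only
    have h1 : z * (v : G) = v * z := Subgroup.mem_centralizer_singleton_iff.1 hz
    calc g * z * y * (y⁻¹ * v * y) * (g * z * y)⁻¹ = g * (z * v) * z⁻¹ * g⁻¹ := by group
      _ = g * v * g⁻¹ := by rw [h1]; group
  · obtain ⟨⟨z, hz⟩, ⟨y, hy⟩⟩ := w
    simp only
    have h1 : Commute z (v : G) := Subgroup.mem_centralizer_singleton_iff.1 hz
    have h2 := bP_conj hM ha v.2 (a.1.inv_mem hy)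
    rw [inv_inv] at h2
    rw [h2, conjIdx_conjIdx, mul_inv_cancel_right, ← conjIdx_conjIdx,
      conjIdx_bP_of_commute hM ha v.2 h1]
  · obtain ⟨⟨z, hz⟩, ⟨y, hy⟩⟩ := w
    simp only
    set v' : a.1 := ⟨y⁻¹ * v * y, a.1.mul_mem (a.1.mul_mem (a.1.inv_mem hy) v.2) hy⟩ with hv'
    have h3 : y⁻¹ * (v : G) * y = (y0 v' : G)⁻¹ * v * y0 v' := hy0 v' ⟨⟨y, hy⟩, rfl⟩
    refine ⟨a.1.mul_mem hy (a.1.inv_mem (y0 v').2), ?_⟩
    change y * (y0 v' : G)⁻¹ ∈ Subgroup.centralizer ({(v : G)} : Set G)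
    rw [Subgroup.mem_centralizer_singleton_iff]
    calc y * (y0 v' : G)⁻¹ * v = y * ((y0 v' : G)⁻¹ * v * y0 v') * (y0 v' : G)⁻¹ := by group
      _ = y * (y⁻¹ * (v : G) * y) * (y0 v' : G)⁻¹ := by rw [h3]
      _ = v * (y * (y0 v' : G)⁻¹) := by group
  · rintro ⟨⟨⟨g', v'⟩, h1, h2⟩, ⟨c, hc⟩⟩
    have h3 := hy0 v' (hconj _ h1 h2)
    have hcv : c * (v : G) = v * c := Subgroup.mem_centralizer_singleton_iff.1 hc.2
    have hv' : (⟨((c * (y0 v' : G)))⁻¹ * v * (c * (y0 v' : G)),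
        a.1.mul_mem (a.1.mul_mem (a.1.inv_mem (a.1.mul_mem hc.1 (y0 v').2)) v.2)
          (a.1.mul_mem hc.1 (y0 v').2)⟩ : a.1) = v' := by
      apply Subtype.ext
      change (c * (y0 v' : G))⁻¹ * v * (c * (y0 v' : G)) = v'
      rw [h3]
      have h6 : c⁻¹ * (v : G) * c = v := by
        rw [mul_assoc, ← hcv, inv_mul_cancel_left]
      calc (c * (y0 v' : G))⁻¹ * v * (c * y0 v') = (y0 v' : G)⁻¹ * (c⁻¹ * v * c) * y0 v' := by group
        _ = _ := by rw [h6]
    refine Prod.ext (Subtype.ext (Prod.ext ?_ ?_)) (Subtype.ext ?_)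
    · simp only
      group
    · exact hv'
    · simp only
      rw [hv']
      group
  · rintro ⟨⟨z, hz⟩, ⟨y, hy⟩⟩
    refine Prod.ext (Subtype.ext ?_) (Subtype.ext ?_)
    · simp only
      group
    · simp only
      group

omit hM ha [Fintype G] [M.IsPrime] in
theorem isPBlock_conjIdx {b : BrauerPairIdx G} (hb : IsPBlock M b.2) (x : G) :
    IsPBlock M (conjIdx x b).2 := isPBlock_blkMap hb

omit hM ha [Fintype G] [M.IsPrime] in
theorem mem_blkPairs_conj {u : G} {b : BrauerPairIdx G} (hb : b ∈ blkPairs M (Subgroup.zpowers u))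
    (x : G) : conjIdx x b ∈ blkPairs M (Subgroup.zpowers (x * u * x⁻¹)) := by
  refine ⟨?_, isPBlock_conjIdx hb.2 x⟩
  rw [conjIdx_fst, hb.1, MonoidHom.map_zpowers]
  rfl

theorem bP_mem_blkPairs {v : G} (hv : v ∈ a.1) :
    bP p M a v ∈ blkPairs M (Subgroup.zpowers v) := by
  obtain ⟨h1, h2⟩ := bP_spec hM ha hv
  exact ⟨h1, (LEIdx.isBrauerPair h2 ha).2⟩

/-- A sum over the subsections conjugate into `a`, as a sum over `P`. -/
theorem sum_subsections [Fintype a.1] (hin : InnerFus p M a) (F : G → BrauerPairIdx G → ℂ)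
    (hF1 : ∀ (x u : G) (b : BrauerPairIdx G), b.1 = Subgroup.zpowers u →
      F (x * u * x⁻¹) (conjIdx x b) = F u b)
    (hF2 : ∀ (u : G) (b : BrauerPairIdx G), b ∈ blkPairs M (Subgroup.zpowers u) → F u b ≠ 0 →
      ∃ x, LEIdx p M (conjIdx x b) a) :
    ∑ u : G, ∑ᶠ b ∈ blkPairs M (Subgroup.zpowers u), F u b =
      (Nat.card G : ℂ) * (Nat.card a.1 : ℂ)⁻¹ * ∑ v : a.1,
        (Nat.card (a.1 ⊓ Subgroup.centralizer ({(v : G)} : Set G) : Subgroup G) : ℂ) *
        (Nat.card (Subgroup.centralizer ({(v : G)} : Set G)) : ℂ)⁻¹ *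
          F v (bP p M a (v : G)) := by
  classical
  have hfin : Finite (BrauerPairIdx G) := finite_brauerPairIdx
  have := Fintype.ofFinite (BrauerPairIdx G)
  set F' : G × BrauerPairIdx G → ℂ := fun x =>
    if x.2 ∈ blkPairs M (Subgroup.zpowers x.1) then F x.1 x.2 else 0 with hF'
  set m : G × a.1 → G × BrauerPairIdx G := fun y =>
    (y.1 * (y.2 : G) * y.1⁻¹, conjIdx y.1 (bP p M a (y.2 : G))) with hm
  set N : G × BrauerPairIdx G → ℕ := fun x =>
    (Finset.univ.filter (fun y : G × a.1 => m y = x)).card with hN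
  have hLHS : ∑ u : G, ∑ᶠ b ∈ blkPairs M (Subgroup.zpowers u), F u b = ∑ x, F' x := by
    rw [Fintype.sum_prod_type]
    refine Finset.sum_congr rfl fun u _ => ?_
    rw [finsum_mem_eq_toFinset_sum, ← Finset.sum_filter]
    refine Finset.sum_congr ?_ fun _ _ => rfl
    ext b
    simp
  have hF'm : ∀ y : G × a.1, F' (m y) = F (y.2 : G) (bP p M a (y.2 : G)) := by
    rintro ⟨g, v⟩
    have h1 := bP_mem_blkPairs hM ha v.2
    have h2 := mem_blkPairs_conj h1 g
    have h3 : F' (m (g, v)) = F (g * v * g⁻¹) (conjIdx g (bP p M a (v : G))) := if_pos h2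
    rw [h3, hF1 _ _ _ h1.1]
  have hNm : ∀ y : G × a.1, (N (m y) : ℂ) *
      (Nat.card (a.1 ⊓ Subgroup.centralizer ({(y.2 : G)} : Set G) : Subgroup G) : ℂ) =
      (Nat.card (Subgroup.centralizer ({(y.2 : G)} : Set G)) : ℂ) * (Nat.card a.1 : ℂ) := by
    rintro ⟨g, v⟩
    have h1 := card_fiber hM ha hin g v
    have h2 : Nat.card {y : G × a.1 // y.1 * (y.2 : G) * y.1⁻¹ = g * v * g⁻¹ ∧
      conjIdx y.1 (bP p M a (y.2 : G)) = conjIdx g (bP p M a (v : G))} = N (m (g, v)) := by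
      rw [Nat.card_eq_fintype_card, Fintype.card_subtype, hN]
      congr 1
      ext y
      simp only [Finset.mem_filter, Finset.mem_univ, true_and, hm, Prod.mk.injEq]
    rw [h2] at h1
    exact_mod_cast h1
  have hsum : ∑ x, F' x = ∑ y : G × a.1, F' (m y) * (N (m y) : ℂ)⁻¹ := by
    rw [← Finset.sum_fiberwise Finset.univ m (fun y => F' (m y) * (N (m y) : ℂ)⁻¹)]
    refine Finset.sum_congr rfl fun x _ => ?_
    have h1 : ∑ y ∈ Finset.univ.filter (fun y => m y = x), F' (m y) * (N (m y) : ℂ)⁻¹ =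
        ∑ y ∈ Finset.univ.filter (fun y => m y = x), F' x * (N x : ℂ)⁻¹ :=
      Finset.sum_congr rfl fun y hy => by rw [(Finset.mem_filter.1 hy).2]
    rw [h1, Finset.sum_const, nsmul_eq_mul]
    change F' x = (N x : ℂ) * (F' x * (N x : ℂ)⁻¹)
    by_cases hx : F' x = 0
    · rw [hx, zero_mul, mul_zero]
    · obtain ⟨u, b⟩ := x
      have hb : b ∈ blkPairs M (Subgroup.zpowers u) := by
        by_contra h
        exact hx (if_neg h)
      have h2 : F' (u, b) = F u b := if_pos hb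
      rw [h2] at hx
      obtain ⟨x, hxb⟩ := hF2 u b hb hx
      have hNx : N (u, b) ≠ 0 := by
        rw [hN]
        refine Finset.card_ne_zero.2 ?_
        have h3 : (conjIdx x b).1 = Subgroup.zpowers (x * u * x⁻¹) :=
          (mem_blkPairs_conj hb x).1
        have hv : x * u * x⁻¹ ∈ a.1 := LEIdx.le hxb (by
          rw [h3]
          exact Subgroup.mem_zpowers _)
        refine ⟨(x⁻¹, ⟨x * u * x⁻¹, hv⟩), ?_⟩
        rw [Finset.mem_filter]
        refine ⟨Finset.mem_univ _, ?_⟩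
        rw [hm]
        simp only
        rw [bP_eq hM ha hv h3 hxb, conjIdx_inv_conjIdx]
        refine Prod.ext ?_ rfl
        simp only
        group
      field_simp
  rw [hLHS, hsum, Fintype.sum_prod_type]
  have hterm : ∀ (g : G) (v : a.1), F' (m (g, v)) * (N (m (g, v)) : ℂ)⁻¹ =
      (Nat.card a.1 : ℂ)⁻¹ * ((Nat.card (a.1 ⊓ Subgroup.centralizer ({(v : G)} : Set G) :
        Subgroup G) : ℂ) * (Nat.card (Subgroup.centralizer ({(v : G)} : Set G)) : ℂ)⁻¹ *
          F v (bP p M a (v : G))) := by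
    intro g v
    have h1 := hNm (g, v)
    simp only at h1
    have hc1 : (Nat.card (a.1 ⊓ Subgroup.centralizer ({(v : G)} : Set G) : Subgroup G) : ℂ) ≠ 0 :=
      by exact_mod_cast Nat.card_pos.ne'
    have hc2 : (Nat.card (Subgroup.centralizer ({(v : G)} : Set G)) : ℂ) ≠ 0 := by
      exact_mod_cast Nat.card_pos.ne'
    have hc3 : (Nat.card a.1 : ℂ) ≠ 0 := by exact_mod_cast Nat.card_pos.ne'
    have hc4 : (N (m (g, v)) : ℂ) ≠ 0 := by
      intro h0
      rw [h0, zero_mul] at h1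
      exact mul_ne_zero hc2 hc3 h1.symm
    rw [hF'm (g, v)]
    simp only
    rw [← div_eq_mul_inv, div_eq_iff hc4]
    field_simp
    linear_combination (-F (v : G) (bP p M a (v : G))) * h1
  simp_rw [hterm]
  rw [Finset.sum_const, Finset.card_univ, nsmul_eq_mul, ← Finset.mul_sum,
    Nat.card_eq_fintype_card (α := G)]
  ring

end

section inner

variable [Fintype G] [Fact p.Prime]

/-- The inner product of `starW w χ` with `ψ` in terms of contributions. -/
theorem classInner_starW (w : G → BrauerPairIdx G → ℂ) (χ ψ : G → ℂ)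
    [DecidablePred fun x : G => ∃ k : ℕ, orderOf x = p ^ k] :
    classInner (starW p M w χ) ψ = (Nat.card G : ℂ)⁻¹ * ∑ u : G,
      ∑ᶠ b ∈ blkPairs M (Subgroup.zpowers u),
        (if ∃ k : ℕ, orderOf u = p ^ k then w u b *
          ((Nat.card (Subgroup.centralizer ({u} : Set G)) : ℂ) * ctr p u b χ ψ) else 0) := by
  classical
  have hfin : Finite (BrauerPairIdx G) := finite_brauerPairIdx
  have := Fintype.ofFinite (BrauerPairIdx G)
  rw [Core.classInner_def]
  congr 1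
  rw [Cfsg.Agent.Blocks.SectionSum.sum_eq_sum_sections p
    (fun g => starW p M w χ g * conj (ψ g)), Finset.sum_filter]
  refine Finset.sum_congr rfl fun u _ => ?_
  by_cases hu : ∃ k : ℕ, orderOf u = p ^ k
  · rw [if_pos (by convert hu)]
    have h1 : ∀ s ∈ Finset.univ.filter (fun y : G => Commute u y ∧ ¬ p ∣ orderOf y),
        starW p M w χ (u * s) * conj (ψ (u * s)) =
          ∑ b ∈ (blkPairs M (Subgroup.zpowers u)).toFinset,
            w u b * (chiE b χ (u * s) * conj (ψ (u * s))) := by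
      intro s hs
      obtain ⟨-, hus, hs⟩ := Finset.mem_filter.1 hs
      unfold starW
      rw [pp_mul hus hu hs, finsum_mem_eq_toFinset_sum, Finset.sum_mul]
      refine Finset.sum_congr rfl fun b _ => ?_
      ring
    rw [Finset.sum_congr rfl h1, Finset.sum_comm, finsum_mem_eq_toFinset_sum]
    refine Finset.sum_congr rfl fun b _ => ?_
    rw [if_pos hu, ← Finset.mul_sum, ctr_sum_eq]
  · rw [if_neg (by convert hu)]
    symm
    rw [finsum_mem_eq_toFinset_sum]
    exact Finset.sum_eq_zero fun b _ => if_neg hu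

variable [M.IsPrime] (hM : IsPModular p M) {a : BrauerPairIdx G}
  (ha : IsBrauerPair p M a.1 a.2)

include hM ha

omit [Fact p.Prime] in
theorem exists_orderOf_eq_pow (hp : p.Prime) {v : G} (hv : v ∈ a.1) :
    ∃ k : ℕ, orderOf v = p ^ k := by
  have : Fact p.Prime := ⟨hp⟩
  obtain ⟨k, hk⟩ := (IsPGroup.iff_orderOf.1 ha.1) ⟨v, hv⟩
  exact ⟨k, by rw [← hk, Subgroup.orderOf_mk]⟩

/-- The inner product of `star η χ` with `ψ`, for inner fusion. -/
theorem classInner_star [Fintype a.1] (hin : InnerFus p M a) {η χ ψ : G → ℂ}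
    (hη : IsStable p M a η) (hχ : IsClassFunction G χ) (hψ : IsClassFunction G ψ) :
    classInner (H651.star p M a η χ) ψ = (Nat.card a.1 : ℂ)⁻¹ * ∑ v : a.1, η v *
      ((Nat.card (a.1 ⊓ Subgroup.centralizer ({(v : G)} : Set G) : Subgroup G) : ℂ) *
        ctr p (v : G) (bP p M a (v : G)) χ ψ) := by
  classical
  have hp : p.Prime := Fact.out
  unfold H651.star
  rw [classInner_starW]
  rw [sum_subsections hM ha hin (fun u b => if ∃ k : ℕ, orderOf u = p ^ k then etaW p M a η u b *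
          ((Nat.card (Subgroup.centralizer ({u} : Set G)) : ℂ) * ctr p u b χ ψ) else 0)]
  · rw [← mul_assoc, ← mul_assoc, inv_mul_cancel₀ (by exact_mod_cast Nat.card_pos.ne'), one_mul]
    congr 1
    refine Finset.sum_congr rfl fun v _ => ?_
    obtain ⟨h1, h2⟩ := bP_spec hM ha v.2
    have h3 : etaW p M a η (v : G) (bP p M a (v : G)) = η v := by
      have h4 := etaW_eq hη (x := 1) h1 (by rw [conjIdx_one]; exact h2)
      rw [h4]
      congr 1
      group
    rw [if_pos (exists_orderOf_eq_pow hM ha hp v.2), h3]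
    have hc2 : (Nat.card (Subgroup.centralizer ({(v : G)} : Set G)) : ℂ) ≠ 0 := by
      exact_mod_cast Nat.card_pos.ne'
    field_simp
  · intro x u b hb
    have h1 : orderOf (x * u * x⁻¹) = orderOf u := Cfsg.Agent.Blocks.Blau.orderOf_conj_eq u x
    simp only [h1]
    rw [etaW_conj hη x u hb, card_centralizer_conj, ctr_conj p x u b hχ hψ]
  · intro u b _ h
    by_contra hcon
    apply h
    rw [etaW_eq_zero hcon, zero_mul, ite_self]

end inner

end Cfsg.Agent.H652.DoubleCount
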