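import Mathlib
import Cfsg.Agent.H652.OrbitPow

/-!
# Traces of high `p`-powers in a group algebra

`A` a commutative ring, `G` a finite group, `u : G` with `u ^ (p ^ r) = 1`, `x : A[G]` commuting
with `u`, `χ : G → A` a class function extended linearly to `A[G]`, `N = p ^ r * p ^ t`.

`sum_pow_congr` : modulo `p ^ (r + 1)`, `χ (u x ^ N)` is the sum over the words
`w : Fin (p ^ r) → C_G(u)` of `(∏ x (w j)) ^ (p ^ t) * χ (u * (∏ w) ^ (p ^ t))`.
-/

set_option autoImplicit false

namespace Cfsg.Agent.H652.WordLemma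

section Words

variable {G : Type*} [Group G]

/-- The product of the first `n` letters. -/
def wprod (W : ℕ → G) (n : ℕ) : G := ((List.range n).map W).prod

theorem wprod_zero (W : ℕ → G) : wprod W 0 = 1 := rfl

theorem wprod_succ (W : ℕ → G) (n : ℕ) : wprod W (n + 1) = wprod W n * W n := by
  unfold wprod
  rw [List.range_succ, List.map_append, List.prod_append]
  simp

theorem wprod_succ' (W : ℕ → G) (n : ℕ) : wprod W (n + 1) = W 0 * wprod (fun i => W (i + 1)) n := by
  unfold wprod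
  rw [List.range_succ_eq_map, List.map_cons, List.prod_cons, List.map_map]
  rfl

theorem wprod_congr {W W' : ℕ → G} {n : ℕ} (h : ∀ i < n, W i = W' i) : wprod W n = wprod W' n := by
  unfold wprod
  congr 1
  refine List.map_congr_left fun i hi => h i (List.mem_range.1 hi)

theorem wprod_conj (u : G) (W : ℕ → G) (n : ℕ) :
    wprod (fun i => u * W i * u⁻¹) n = u * wprod W n * u⁻¹ := by
  induction n with
  | zero => rw [wprod_zero, wprod_zero]; group
  | succ n ih => rw [wprod_succ, wprod_succ, ih]; group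

theorem wprod_add (W : ℕ → G) (m n : ℕ) :
    wprod W (m + n) = wprod W m * wprod (fun i => W (m + i)) n := by
  induction n with
  | zero => rw [wprod_zero, mul_one, add_zero]
  | succ n ih => rw [← add_assoc, wprod_succ, wprod_succ, ih, mul_assoc]

theorem wprod_periodic {W : ℕ → G} {s : ℕ} (h : ∀ n, W (n + s) = W n) (m : ℕ) :
    wprod W (s * m) = wprod W s ^ m := by
  have hper : ∀ (m n : ℕ), W (s * m + n) = W n := by
    intro m
    induction m with
    | zero => intro n; rw [mul_zero, zero_add]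
    | succ m ih =>
      intro n
      rw [mul_add, mul_one, show s * m + s + n = s * m + n + s by ring, h, ih]
  induction m with
  | zero => rw [mul_zero, wprod_zero, pow_zero]
  | succ m ih =>
    rw [mul_add, mul_one, wprod_add, ih, pow_succ]
    congr 1
    exact wprod_congr fun i _ => hper m i

theorem ofFn_prod (W : ℕ → G) (n : ℕ) :
    (List.ofFn fun j : Fin n => W j).prod = wprod W n := by
  induction n generalizing W with
  | zero => rfl
  | succ n ih =>
    rw [List.ofFn_succ, List.prod_cons, wprod_succ', ← ih]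
    rfl

/-- The sequences `W` with `W (n + N) = u W(n) u⁻¹`. -/
structure Tw (u : G) (N : ℕ) where
  /-- the sequence -/
  seq : ℕ → G
  tw : ∀ n, seq (n + N) = u * seq n * u⁻¹

theorem Tw.ext' {u : G} {N : ℕ} {W W' : Tw u N} (h : ∀ n, W.seq n = W'.seq n) : W = W' := by
  obtain ⟨W, hW⟩ := W
  obtain ⟨W', hW'⟩ := W'
  have : W = W' := funext h
  subst this
  rfl

/-- The sequence attached to a word. -/
def ext (u : G) {N : ℕ} (hN : 0 < N) (w : Fin N → G) (n : ℕ) : G :=
  u ^ (n / N) * w ⟨n % N, Nat.mod_lt n hN⟩ * (u ^ (n / N))⁻¹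

theorem ext_of_lt (u : G) {N : ℕ} (hN : 0 < N) (w : Fin N → G) (j : Fin N) :
    ext u hN w j = w j := by
  unfold ext
  have h1 : (j : ℕ) / N = 0 := Nat.div_eq_of_lt j.2
  have h2 : (⟨(j : ℕ) % N, Nat.mod_lt _ hN⟩ : Fin N) = j := Fin.ext (Nat.mod_eq_of_lt j.2)
  rw [h1, h2]
  simp

theorem ext_add (u : G) {N : ℕ} (hN : 0 < N) (w : Fin N → G) (n : ℕ) :
    ext u hN w (n + N) = u * ext u hN w n * u⁻¹ := by
  unfold ext
  have h1 : (n + N) / N = n / N + 1 := Nat.add_div_right n hN
  have h2 : (⟨(n + N) % N, Nat.mod_lt _ hN⟩ : Fin N) = ⟨n % N, Nat.mod_lt n hN⟩ :=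
    Fin.ext (Nat.add_mod_right n N)
  rw [h1, h2, pow_succ']
  group

theorem tw_eq_of_lt {u : G} {N : ℕ} (hN : 0 < N) {W W' : ℕ → G}
    (hW : ∀ n, W (n + N) = u * W n * u⁻¹) (hW' : ∀ n, W' (n + N) = u * W' n * u⁻¹)
    (h : ∀ j < N, W j = W' j) (n : ℕ) : W n = W' n := by
  induction n using Nat.strong_induction_on with
  | _ n ih =>
    by_cases hn : n < N
    · exact h n hn
    · obtain ⟨m, rfl⟩ : ∃ m, n = m + N := ⟨n - N, by omega⟩
      rw [hW, hW', ih m (by omega)]

/-- Words and twisted periodic sequences. -/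
def twEquiv (u : G) {N : ℕ} (hN : 0 < N) : (Fin N → G) ≃ Tw u N where
  toFun w := ⟨ext u hN w, ext_add u hN w⟩
  invFun W j := W.seq j
  left_inv w := funext fun j => ext_of_lt u hN w j
  right_inv W := Tw.ext' fun n => tw_eq_of_lt hN (ext_add u hN _) W.tw
    (fun j hj => ext_of_lt u hN (fun j => W.seq j) ⟨j, hj⟩) n

theorem twEquiv_apply (u : G) {N : ℕ} (hN : 0 < N) (w : Fin N → G) (j : Fin N) :
    (twEquiv u hN w).seq j = w j := ext_of_lt u hN w j

theorem Tw.tw_mul {u : G} {N : ℕ} (W : Tw u N) (k n : ℕ) :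
    W.seq (n + N * k) = u ^ k * W.seq n * (u ^ k)⁻¹ := by
  induction k generalizing n with
  | zero => simp
  | succ k ih =>
    rw [mul_add, mul_one, ← add_assoc, W.tw, ih, pow_succ']
    group

/-- The twisted shift. -/
def shift (u : G) (N : ℕ) (hN : 0 < N) : Equiv.Perm (Tw u N) where
  toFun W := ⟨fun n => u⁻¹ * W.seq (n + 1) * u, fun n => by
    have h := W.tw (n + 1)
    have h2 : n + N + 1 = n + 1 + N := by ring
    rw [h2, h]
    group⟩
  invFun W := ⟨fun n => W.seq (n + (N - 1)), fun n => by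
    have h := W.tw (n + (N - 1))
    have h2 : n + N + (N - 1) = n + (N - 1) + N := by ring
    rw [h2, h]⟩
  left_inv W := Tw.ext' fun n => by
    change u⁻¹ * W.seq (n + (N - 1) + 1) * u = W.seq n
    rw [show n + (N - 1) + 1 = n + N by omega, W.tw]
    group
  right_inv W := Tw.ext' fun n => by
    change u⁻¹ * W.seq (n + 1 + (N - 1)) * u = W.seq n
    rw [show n + 1 + (N - 1) = n + N by omega, W.tw]
    group

theorem shift_apply (u : G) {N : ℕ} (hN : 0 < N) (W : Tw u N) (n : ℕ) :
    (shift u N hN W).seq n = u⁻¹ * W.seq (n + 1) * u := rfl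

theorem shift_pow_apply (u : G) {N : ℕ} (hN : 0 < N) (k : ℕ) (W : Tw u N) (n : ℕ) :
    ((shift u N hN ^ k) W).seq n = (u ^ k)⁻¹ * W.seq (n + k) * u ^ k := by
  induction k generalizing n with
  | zero => simp
  | succ k ih =>
    rw [pow_succ', Equiv.Perm.mul_apply, shift_apply, ih, show n + 1 + k = n + (k + 1) by ring,
      pow_succ]
    group

end Words

section Expand

variable {G A : Type*} [Group G] [CommRing A]

/-- The values of a linear form at a power, as a sum over words. -/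
theorem sum_coeff_pow [Fintype G] (x : MonoidAlgebra A G) (N : ℕ) (F : G → A) :
    ∑ g, (x ^ N).coeff g * F g =
      ∑ w : Fin N → G, (∏ j, x.coeff (w j)) * F (List.ofFn w).prod := by
  classical
  induction N generalizing F with
  | zero =>
    rw [pow_zero, MonoidAlgebra.one_def, MonoidAlgebra.coeff_single]
    rw [Fintype.sum_eq_single 1 (fun g hg => by
      rw [Finsupp.single_apply, if_neg (fun h => hg h.symm), zero_mul])]
    simp
  | succ N ih =>
    have h1 : ∀ g, (x ^ (N + 1)).coeff g = ∑ a : G, x.coeff a * (x ^ N).coeff (a⁻¹ * g) := by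
      intro g
      rw [pow_succ', MonoidAlgebra.coeff_mul_apply_left, Finsupp.sum_fintype]
      intro a
      rw [zero_mul]
    simp_rw [h1, Finset.sum_mul]
    rw [Finset.sum_comm]
    have h2 : ∀ a : G, ∑ g : G, x.coeff a * (x ^ N).coeff (a⁻¹ * g) * F g =
        x.coeff a * ∑ w : Fin N → G, (∏ j, x.coeff (w j)) * F (a * (List.ofFn w).prod) := by
      intro a
      rw [← ih fun g => F (a * g), Finset.mul_sum, ← Equiv.sum_comp (Equiv.mulLeft a)]
      refine Finset.sum_congr rfl fun g _ => ?_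
      rw [Equiv.coe_mulLeft, inv_mul_cancel_left, mul_assoc]
    rw [Finset.sum_congr rfl fun a _ => h2 a]
    rw [← Equiv.sum_comp (Fin.consEquiv fun _ : Fin (N + 1) => G), Fintype.sum_prod_type]
    refine Finset.sum_congr rfl fun a _ => ?_
    rw [Finset.mul_sum]
    refine Finset.sum_congr rfl fun w _ => ?_
    have h3 : ∀ j, (Fin.consEquiv fun _ : Fin (N + 1) => G) (a, w) j = (Fin.cons a w : Fin (N + 1) → G) j :=
      fun j => rfl
    simp only [h3]
    rw [Fin.prod_univ_succ]
    have h4 : (List.ofFn ((Fin.consEquiv fun _ : Fin (N + 1) => G) (a, w))).prod =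
        a * (List.ofFn w).prod := by
      change (List.ofFn (Fin.cons a w : Fin (N + 1) → G)).prod = _
      rw [List.ofFn_succ, List.prod_cons]
      simp only [Fin.cons_zero, Fin.cons_succ]
    rw [h4]
    simp only [Fin.cons_zero, Fin.cons_succ]
    ring

end Expand

section Main

variable {G A : Type*} [Group G] [CommRing A]

/-- The contribution of a sequence. -/
def contr (x χ : G → A) (u : G) (N : ℕ) (W : ℕ → G) : A :=
  (∏ j ∈ Finset.range N, x (W j)) * χ (u * wprod W N)

theorem contr_shift {x χ : G → A} {u : G} (hx : ∀ g, x (u * g * u⁻¹) = x g)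
    (hχ : ∀ a b, χ (a * b) = χ (b * a)) {N : ℕ} (hN : 0 < N) (W : Tw u N) :
    contr x χ u N (shift u N hN W).seq = contr x χ u N W.seq := by
  have hx' : ∀ g, x (u⁻¹ * g * u) = x g := by
    intro g
    rw [← hx (u⁻¹ * g * u)]
    congr 1
    group
  obtain ⟨n, rfl⟩ : ∃ n, N = n + 1 := ⟨N - 1, by omega⟩
  have h2 : W.seq (n + 1) = u * W.seq 0 * u⁻¹ := by
    have := W.tw 0
    rwa [zero_add] at this
  unfold contr
  congr 1
  · have h1 : ∀ j ∈ Finset.range (n + 1), x ((shift u (n + 1) hN W).seq j) = x (W.seq (j + 1)) :=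
      fun j _ => by rw [shift_apply, hx']
    rw [Finset.prod_congr rfl h1, Finset.prod_range_succ, Finset.prod_range_succ', h2, hx]
  · have h1 : wprod (shift u (n + 1) hN W).seq (n + 1) =
        u⁻¹ * wprod (fun i => W.seq (i + 1)) (n + 1) * u := by
      have := wprod_conj u⁻¹ (fun i => W.seq (i + 1)) (n + 1)
      rw [inv_inv] at this
      rw [← this]
      rfl
    rw [h1, wprod_succ, h2, wprod_succ' W.seq]
    rw [show u * (u⁻¹ * (wprod (fun i => W.seq (i + 1)) n * (u * W.seq 0 * u⁻¹)) * u) =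
      wprod (fun i => W.seq (i + 1)) n * (u * W.seq 0) by group, hχ, mul_assoc]

omit [Group G] in
theorem periodic_mul {W : ℕ → G} {s : ℕ} (h : ∀ n, W (n + s) = W n) (k n : ℕ) :
    W (n + s * k) = W n := by
  induction k generalizing n with
  | zero => simp
  | succ k ih => rw [mul_add, mul_one, ← add_assoc, h, ih]

omit [Group G] in
theorem prod_periodic {x : G → A} {W : ℕ → G} {s : ℕ} (h : ∀ n, W (n + s) = W n) (m : ℕ) :
    ∏ j ∈ Finset.range (s * m), x (W j) = (∏ j ∈ Finset.range s, x (W j)) ^ m := by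
  induction m with
  | zero => simp
  | succ m ih =>
    rw [mul_add, mul_one, Finset.prod_range_add, ih, pow_succ]
    congr 1
    refine Finset.prod_congr rfl fun j _ => ?_
    rw [add_comm, periodic_mul h]

open Classical in
/-- **Traces of high powers.** -/
theorem sum_words_congr [Fintype G] {p : ℕ} (hp : p.Prime) {r t : ℕ} {x χ : G → A} {u : G}
    (hu : u ^ (p ^ r) = 1) (hx : ∀ g, x (u * g * u⁻¹) = x g)
    (hχ : ∀ a b, χ (a * b) = χ (b * a)) :
    ∃ c : A, ∑ w : Fin (p ^ r * p ^ t) → G, (∏ j, x (w j)) * χ (u * (List.ofFn w).prod) =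
      ∑ v : Fin (p ^ r) → Subgroup.centralizer ({u} : Set G),
        (∏ j, x (v j)) ^ (p ^ t) * χ (u * (List.ofFn fun j => (v j : G)).prod ^ (p ^ t)) +
      p ^ (r + 1) • c := by
  obtain ⟨s, hs⟩ : ∃ s, s = p ^ r := ⟨_, rfl⟩
  obtain ⟨m, hm⟩ : ∃ m, m = p ^ t := ⟨_, rfl⟩
  obtain ⟨N, hNdef⟩ : ∃ N, N = s * m := ⟨_, rfl⟩
  rw [← hs, ← hm, ← hNdef]
  rw [← hs] at hu
  have hs0 : 0 < s := by rw [hs]; exact pow_pos hp.pos r
  have hN : 0 < N := by rw [hNdef, hm]; exact Nat.mul_pos hs0 (pow_pos hp.pos t)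
  let e := twEquiv u hN
  have hfin : Fintype (Tw u N) := Fintype.ofEquiv _ e
  have hLHS : ∑ w : Fin N → G, (∏ j, x (w j)) * χ (u * (List.ofFn w).prod) =
      ∑ W : Tw u N, contr x χ u N W.seq := by
    rw [← Equiv.sum_comp e]
    refine Finset.sum_congr rfl fun w _ => ?_
    unfold contr
    have h1 : ∀ j : Fin N, (e w).seq j = w j := twEquiv_apply u hN w
    rw [Finset.prod_range, ← ofFn_prod]
    simp only [h1]
  have hord : (shift u N hN) ^ (p ^ (r + t + r)) = 1 := by
    refine Equiv.ext fun W => Tw.ext' fun n => ?_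
    rw [shift_pow_apply, Equiv.Perm.one_apply]
    have h3 : p ^ (r + t + r) = N * s := by rw [hNdef, hs, hm]; ring
    have h1 : u ^ (N * s) = 1 := by
      rw [mul_comm, pow_mul, hu, one_pow]
    rw [h3, h1, W.tw_mul, hu]
    simp
  obtain ⟨c, hc⟩ := OrbitPow.sum_eq_sum_fixed_pow hp (shift u N hN) (r := r) hord
    (fun W => contr x χ u N W.seq) (fun W => contr_shift hx hχ hN W)
  refine ⟨c, ?_⟩
  rw [hLHS, hc]
  congr 1
  -- the fixed points
  have hfix : ∀ W : Tw u N, ((shift u N hN) ^ s) W = W ↔ ∀ n, W.seq (n + s) = W.seq n := by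
    intro W
    constructor
    · intro h n
      have h1 : ((shift u N hN ^ s) W).seq n = W.seq n := by rw [h]
      rw [shift_pow_apply, hu] at h1
      simpa using h1
    · intro h
      refine Tw.ext' fun n => ?_
      rw [shift_pow_apply, hu, h]
      simp
  have hcen : ∀ W : Tw u N, (∀ n, W.seq (n + s) = W.seq n) → ∀ n,
      W.seq n ∈ Subgroup.centralizer ({u} : Set G) := by
    intro W hW n
    have h2 := W.tw n
    have h4 : n + N = n + s * m := by rw [hNdef]
    have h3 : W.seq (n + N) = W.seq n := by rw [h4]; exact periodic_mul hW m n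
    rw [h3] at h2
    rw [Subgroup.mem_centralizer_singleton_iff]
    rw [eq_mul_inv_iff_mul_eq] at h2
    exact h2
  have htw : ∀ (v : Fin s → Subgroup.centralizer ({u} : Set G)) (n : ℕ),
      (fun n : ℕ => (v ⟨n % s, Nat.mod_lt n hs0⟩ : G)) (n + N) =
        u * (fun n : ℕ => (v ⟨n % s, Nat.mod_lt n hs0⟩ : G)) n * u⁻¹ := by
    intro v n
    have h1 : (n + N) % s = n % s := by
      rw [hNdef, Nat.add_mul_mod_self_left]
    have h2 := Subgroup.mem_centralizer_singleton_iff.1 (v ⟨n % s, Nat.mod_lt n hs0⟩).2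
    simp only [h1]
    rw [← h2]
    group
  rw [← hs]
  symm
  refine Finset.sum_bij (fun (v : Fin s → Subgroup.centralizer ({u} : Set G)) _ =>
    (⟨fun n : ℕ => (v ⟨n % s, Nat.mod_lt n hs0⟩ : G), htw v⟩ : Tw u N)) ?_ ?_ ?_ ?_
  · intro v _
    rw [Finset.mem_filter]
    refine ⟨Finset.mem_univ _, (hfix _).2 fun n => ?_⟩
    simp only [Nat.add_mod_right]
  · intro v _ v' _ hvv
    funext j
    have h1 : (v ⟨(j : ℕ) % s, Nat.mod_lt _ hs0⟩ : G) = v' ⟨(j : ℕ) % s, Nat.mod_lt _ hs0⟩ :=
      congrArg (fun W' : Tw u N => W'.seq (j : ℕ)) hvv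
    have h2 : (⟨(j : ℕ) % s, Nat.mod_lt _ hs0⟩ : Fin s) = j := Fin.ext (Nat.mod_eq_of_lt j.2)
    rw [h2] at h1
    exact Subtype.ext h1
  · intro W hW
    have hW' := (hfix W).1 (Finset.mem_filter.1 hW).2
    refine ⟨fun j => ⟨W.seq j, hcen W hW' j⟩, Finset.mem_univ _, Tw.ext' fun n => ?_⟩
    change W.seq (n % s) = W.seq n
    conv_rhs => rw [← Nat.mod_add_div n s]
    rw [periodic_mul hW']
  · intro v _
    unfold contr
    have hper : ∀ n : ℕ, (fun n : ℕ => (v ⟨n % s, Nat.mod_lt n hs0⟩ : G)) (n + s) =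
        (fun n : ℕ => (v ⟨n % s, Nat.mod_lt n hs0⟩ : G)) n := by
      intro n
      simp only [Nat.add_mod_right]
    have hv : ∀ j : Fin s, (fun n : ℕ => (v ⟨n % s, Nat.mod_lt n hs0⟩ : G)) j = v j := by
      intro j
      have h2 : (⟨(j : ℕ) % s, Nat.mod_lt _ hs0⟩ : Fin s) = j := Fin.ext (Nat.mod_eq_of_lt j.2)
      simp only [h2]
    change _ = (∏ j ∈ Finset.range N, x ((fun n : ℕ => (v ⟨n % s, Nat.mod_lt n hs0⟩ : G)) j)) *
      χ (u * wprod (fun n : ℕ => (v ⟨n % s, Nat.mod_lt n hs0⟩ : G)) N)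
    rw [hNdef, prod_periodic hper, wprod_periodic hper, Finset.prod_range, ← ofFn_prod]
    simp only [hv]

end Main

end Cfsg.Agent.H652.WordLemma
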